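import Mathlib

/-!
# Semisimple isometries with commuting nilpotent maps
-/

set_option autoImplicit false

namespace CfsgLib.HallGen.SympSpectrum

open Polynomial Module
open LinearMap (BilinForm)

variable {F V : Type*} [Field F] [AddCommGroup V] [Module F V] [FiniteDimensional F V]

omit [FiniteDimensional F V] in
theorem commute_aeval {T S : Module.End F V} (h : Commute T S) (P : F[X]) : Commute T (aeval S P) := by
  induction P using Polynomial.induction_on' with
  | add P Q hP hQ => rw [map_add]; exact hP.add_right hQ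
  | monomial n c =>
    rw [aeval_monomial]
    exact Commute.mul_right (Algebra.commutes c T).symm (h.pow_right n)

/-- On a space killed by an irreducible `f(S)`, nilpotent maps commuting with `S` die early. -/
theorem exists_pow_kill {f : F[X]} (hf : Irreducible f) (S N : Module.End F V) (hN : IsNilpotent N)
    (hSN : Commute S N) :
    ∃ k, finrank F (LinearMap.ker (aeval S f)) = f.natDegree * k ∧
      ∀ w ∈ LinearMap.ker (aeval S f), (N ^ k) w = 0 := by
  have : Fact (Irreducible f) := ⟨hf⟩
  set W := LinearMap.ker (aeval S f) with hW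
  have inv : ∀ T : Module.End F V, Commute T S → ∀ w ∈ W, T w ∈ W := by
    intro T hT w hw
    rw [hW, LinearMap.mem_ker] at hw ⊢
    have h := (commute_aeval hT f)
    show (aeval S f * T) w = 0
    rw [← h.eq]
    show T (aeval S f w) = 0
    rw [hw, map_zero]
  let S' : Module.End F W := S.restrict (inv S (Commute.refl S))
  let N' : Module.End F W := N.restrict (inv N hSN.symm)
  have hae : ∀ (P : F[X]) (w : W), ((aeval S' P w : W) : V) = aeval S P (w : V) := by
    intro P
    induction P using Polynomial.induction_on' with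
    | add P Q hP hQ => intro w; simp [hP, hQ]
    | monomial n c =>
      intro w
      simp only [aeval_monomial, Module.algebraMap_end_eq_smul_id]
      have : ∀ (n : ℕ) (w : W), (((S' ^ n) w : W) : V) = (S ^ n) (w : V) := by
        intro n
        induction n with
        | zero => intro w; rfl
        | succ n ih => intro w; rw [pow_succ, pow_succ]; exact ih (S' w)
      show ((c • (S' ^ n) w : W) : V) = c • (S ^ n) (w : V)
      rw [Submodule.coe_smul, this]
  have hS' : aeval S' f = 0 := LinearMap.ext fun w => Subtype.ext (by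
    rw [hae]
    exact w.2)
  have hker : ∀ a ∈ Ideal.span ({f} : Set F[X]), aeval S' a = 0 := by
    intro a ha
    obtain ⟨b, rfl⟩ := Ideal.mem_span_singleton'.1 ha
    rw [map_mul, hS', mul_zero]
  let φ : AdjoinRoot f →ₐ[F] Module.End F W := Ideal.Quotient.liftₐ _ (aeval S') hker
  letI : Module (AdjoinRoot f) W := Module.compHom W φ.toRingHom
  have hsmul : ∀ (a : AdjoinRoot f) (w : W), a • w = φ a w := fun _ _ => rfl
  haveI : IsScalarTower F (AdjoinRoot f) W := ⟨fun c a w => by
    rw [hsmul, hsmul, map_smul, LinearMap.smul_apply]⟩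
  haveI : Module.Finite (AdjoinRoot f) W := Module.Finite.of_restrictScalars_finite F _ _
  have hcomm : ∀ a, Commute N' (φ a) := by
    intro a
    induction a using AdjoinRoot.induction_on with
    | _ P =>
      show Commute N' (aeval S' P)
      exact commute_aeval (show Commute N' S' from LinearMap.ext fun w => Subtype.ext
        (show N (S (w : V)) = S (N (w : V)) from LinearMap.congr_fun hSN.eq.symm (w : V))) P
  let N'' : Module.End (AdjoinRoot f) W :=
    { toFun := N'
      map_add' := map_add N'
      map_smul' := fun a w => LinearMap.congr_fun (hcomm a).eq w }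
  have hpow : ∀ (k : ℕ) (w : W), (((N'' ^ k) w : W) : V) = (N ^ k) (w : V) := by
    intro k
    induction k with
    | zero => intro w; rfl
    | succ k ih => intro w; rw [pow_succ, pow_succ]; exact ih (N'' w)
  have hN'' : IsNilpotent N'' := by
    obtain ⟨r, hr⟩ := hN
    exact ⟨r, LinearMap.ext fun w => Subtype.ext (by rw [hpow, hr]; rfl)⟩
  refine ⟨finrank (AdjoinRoot f) W, ?_, fun w hw => ?_⟩
  · rw [← (AdjoinRoot.powerBasis hf.ne_zero).finrank.trans (AdjoinRoot.powerBasis_dim hf.ne_zero)]
    exact (Module.finrank_mul_finrank F (AdjoinRoot f) W).symm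
  · have h := LinearMap.aeval_self_charpoly N''
    rw [hN''.charpoly_eq_X_pow_finrank, map_pow, aeval_X] at h
    have h2 := hpow (finrank (AdjoinRoot f) W) ⟨w, hw⟩
    rw [h] at h2
    exact h2.symm

variable {B : BilinForm F V}

theorem exists_root_pow [Finite F] {p : ℕ} [Fact p.Prime] [CharP F p] {f : F[X]} (hf : Irreducible f)
    [Fact (Irreducible f)] (hfm : f.Monic) (e : ℕ) (h : aeval (AdjoinRoot.root f ^ e) f = 0) :
    ∃ i : ℕ, AdjoinRoot.root f ^ e = AdjoinRoot.root f ^ Nat.card F ^ i := by
  haveI : FiniteDimensional F (AdjoinRoot f) := (AdjoinRoot.powerBasis hf.ne_zero).finite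
  haveI : Finite (AdjoinRoot f) := Module.finite_of_finite F
  let σ : AdjoinRoot f →ₐ[F] AdjoinRoot f :=
    AdjoinRoot.liftAlgHom f (Algebra.ofId F _) (AdjoinRoot.root f ^ e) (by
      exact h)
  have hbij : Function.Bijective σ := Finite.injective_iff_bijective.1 σ.toRingHom.injective
  obtain ⟨i, hi⟩ := FiniteField.exists_forall_apply_eq_pow F p (AdjoinRoot f) (AlgEquiv.ofBijective σ hbij)
  refine ⟨i, ?_⟩
  rw [← hi (AdjoinRoot.root f)]
  exact (show σ (AdjoinRoot.root f) = _ from AdjoinRoot.liftAlgHom_root f _ _ _).symm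

theorem mul_eq_one_of_root {f : F[X]} {P : F[X]} (S : Module.End F V) (h : f ∣ P)
    {w : V} (hw : aeval S f w = 0) : aeval S P w = 0 := by
  obtain ⟨Q, rfl⟩ := h
  rw [mul_comm, map_mul, Module.End.mul_apply, hw, map_zero]

/-- The block alternative for a semisimple isometry and a commuting nilpotent map. -/
theorem block_cases [Finite F] {p : ℕ} [Fact p.Prime] [CharP F p] (h2 : (2 : F) ≠ 0)
    (hA : B.IsAlt) (hB : B.Nondegenerate) {m : ℕ} (hm : 1 ≤ m) (hV : finrank F V = 2 * m)
    (S N : Module.End F V) (M : ℕ) (hModd : Odd M) (hMp : (M : F) ≠ 0) (hordS : orderOf S = M)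
    (hS1 : S ≠ 1) (hiso : ∀ u v, B (S u) (S v) = B u v) (hN : IsNilpotent N) (hSN : Commute S N) :
    (∃ P : F[X], aeval S P * aeval S P = 1 ∧ aeval S P ≠ 1 ∧ aeval S P ≠ -1 ∧
        ∀ u v, B (aeval S P u) (aeval S P v) = B u v) ∨
      ∃ d k, m = d * k ∧ 1 ≤ d ∧ (M ∣ Nat.card F ^ d + 1 ∨ M ∣ Nat.card F ^ d - 1) ∧ N ^ k = 0 := by
  classical
  have := Module.nontrivial_of_finrank_pos (R := F) (M := V) (by omega)
  have hM2 : 2 ≤ M := by
    rcases hModd with ⟨c, hc⟩
    rcases Nat.eq_zero_or_pos c with h | h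
    · exfalso
      exact hS1 (orderOf_eq_one_iff.1 (by omega))
    · omega
  have hSM : S ^ M = 1 := hordS ▸ pow_orderOf_eq_one S
  let R : F[X] → F[X] := fun P => P.comp (X ^ (M - 1))
  have hR : ∀ P, aeval S (R P) = aeval (S ^ (M - 1)) P := fun P => by
    show aeval S (P.comp _) = _
    rw [aeval_comp, map_pow, aeval_X]
  have hRmul : ∀ P Q, R (P * Q) = R P * R Q := fun P Q => mul_comp P Q _
  have hadj : ∀ (P : F[X]) (u v : V), B (aeval S P u) v = B u (aeval S (R P) v) := by
    intro P
    induction P using Polynomial.induction_on' with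
    | add P Q hP hQ =>
      intro u v
      rw [map_add, LinearMap.add_apply, map_add, LinearMap.add_apply, hP, hQ, hR, hR, hR, map_add,
        LinearMap.add_apply, map_add]
    | monomial n c =>
      intro u v
      have hpow : ∀ (j : ℕ) (u v : V), B ((S ^ j) u) ((S ^ j) v) = B u v := by
        intro j
        induction j with
        | zero => intro u v; rfl
        | succ j ih => intro u v; rw [pow_succ, Module.End.mul_apply, Module.End.mul_apply, ih, hiso]
      have hinv : (S ^ n) (((S ^ (M - 1)) ^ n) v) = v := by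
        rw [← Module.End.mul_apply, ← (Commute.pow_self S (M - 1)).symm.mul_pow, ← pow_succ',
          Nat.sub_add_cancel (by omega), hSM, one_pow]
        rfl
      rw [hR, aeval_monomial, aeval_monomial, Module.algebraMap_end_eq_smul_id]
      show B (c • (S ^ n) u) v = B u (c • ((S ^ (M - 1)) ^ n) v)
      rw [map_smul, LinearMap.smul_apply, map_smul]
      conv_lhs => rw [← hinv, hpow]
  have hsw : ∀ u v, B u v = 0 → B v u = 0 := fun u v h => by
    rw [← LinearMap.BilinForm.IsAlt.neg_eq hA u v, h, neg_zero]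
  have horth : ∀ {P Q : F[X]}, P ∣ R Q → ∀ w, aeval S P w = 0 → ∀ v, B w (aeval S Q v) = 0 := by
    intro P Q h w hw v
    refine hsw _ _ ?_
    rw [hadj, mul_eq_one_of_root S h hw, map_zero]
  set μ := minpoly F S with hμdef
  have hint : IsIntegral F S := Algebra.IsIntegral.isIntegral S
  have hμm : μ.Monic := minpoly.monic hint
  have hμdvd : μ ∣ X ^ M - 1 := minpoly.dvd F S (by simp [hSM])
  have hsep : (X ^ M - 1 : F[X]).Separable := by
    rw [← map_one C]; exact separable_X_pow_sub_C 1 hMp one_ne_zero
  have hsq : Squarefree μ := (hsep.of_dvd hμdvd).squarefree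
  obtain ⟨f, hfm, hfi, hfμ⟩ := Polynomial.exists_monic_irreducible_factor μ (minpoly.not_isUnit F S)
  have : Fact (Irreducible f) := ⟨hfi⟩
  haveI : FiniteDimensional F (AdjoinRoot f) := (AdjoinRoot.powerBasis hfi.ne_zero).finite
  haveI : Finite (AdjoinRoot f) := Module.finite_of_finite F
  set r := AdjoinRoot.root f with hr
  have hroot : ∀ P : F[X], aeval r P = 0 ↔ f ∣ P := fun P => by
    rw [AdjoinRoot.aeval_eq, AdjoinRoot.mk_eq_zero]
  have hrM : r ^ M = 1 := by
    have := (hroot _).2 (hfμ.trans hμdvd)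
    rwa [map_sub, map_pow, aeval_X, map_one, sub_eq_zero] at this
  set r' := r ^ (M - 1) with hr'
  have hr'r : r' ^ (M - 1) = r := by
    obtain ⟨c, rfl⟩ : ∃ c, M = c + 2 := ⟨M - 2, by omega⟩
    rw [hr', ← pow_mul, show (c + 2 - 1) * (c + 2 - 1) = (c + 2) * c + 1 by
      rw [show c + 2 - 1 = c + 1 by omega]; ring, pow_succ, pow_mul, hrM, one_pow, one_mul]
  set f' := minpoly F r' with hf'def
  have hint' : IsIntegral F r' := Algebra.IsIntegral.isIntegral r'
  have hf'i : Irreducible f' := minpoly.irreducible hint'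
  have hf'm : f'.Monic := minpoly.monic hint'
  have haeR : ∀ (x : AdjoinRoot f) (P : F[X]), aeval x (R P) = aeval (x ^ (M - 1)) P := fun x P => by
    show aeval x (P.comp _) = _
    rw [aeval_comp, map_pow, aeval_X]
  have hfR : f ∣ R f' := (hroot _).1 (by rw [haeR]; exact minpoly.aeval F r')
  have hf'R : f' ∣ R f := minpoly.dvd F r' (by rw [haeR, hr'r]; exact (hroot f).2 dvd_rfl)
  have hker : ∀ P : F[X], P ∣ μ → P.Monic → P ≠ 1 → ∃ w, w ≠ 0 ∧ aeval S P w = 0 := by
    rintro P ⟨Q, hQ⟩ hPm hP1
    by_contra hcon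
    push Not at hcon
    have hQm : Q.Monic := hPm.of_mul_monic_left (hQ ▸ hμm)
    have hz : aeval S Q = 0 := LinearMap.ext fun v => by
      by_contra hv
      refine hcon _ hv ?_
      rw [← Module.End.mul_apply, ← map_mul, ← hQ, minpoly.aeval]
      rfl
    have hle := natDegree_le_of_dvd (minpoly.dvd F S hz) hQm.ne_zero
    rw [← hμdef, hQ, hPm.natDegree_mul hQm] at hle
    exact hP1 (hPm.natDegree_eq_zero.1 (by omega))
  have hf1 : f ≠ 1 := fun h => hfi.not_isUnit (h ▸ isUnit_one)
  have hf'μ : f' ∣ μ := by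
    by_contra h
    obtain ⟨a, b, hab⟩ := hf'i.coprime_iff_not_dvd.2 h
    obtain ⟨w, hw0, hw⟩ := hker f hfμ hfm hf1
    refine hw0 (hB.1 w fun v => ?_)
    have hv : v = aeval S f' (aeval S a v) := by
      rw [← Module.End.mul_apply, ← map_mul, mul_comm f']
      have := congrArg (fun P => aeval S P v) hab
      simp only [map_add, LinearMap.add_apply, map_mul, map_one, minpoly.aeval, hμdef] at this
      simpa using this.symm
    rw [hv]
    exact horth hfR w hw _
  set h : F[X] := if f' = f then f else f * f' with hh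
  have hhm : h.Monic := by rw [hh]; split_ifs; exacts [hfm, hfm.mul hf'm]
  have hhR : h ∣ R h := by
    rw [hh]; split_ifs with he
    · rw [he] at hfR; exact hfR
    · rw [hRmul]
      exact (mul_comm f f').symm ▸ mul_dvd_mul hf'R hfR
  have hcop' : f' ≠ f → IsCoprime f f' := fun he => hfi.coprime_iff_not_dvd.2 fun hd =>
    he (eq_of_monic_of_associated hf'm hfm (hfi.associated_of_dvd hf'i hd).symm)
  have hhμ : h ∣ μ := by
    rw [hh]; split_ifs with he
    · exact hfμ
    · exact (hcop' he).mul_dvd hfμ hf'μ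
  have hh1 : h ≠ 1 := fun e => by
    have : f ∣ h := by rw [hh]; split_ifs; exacts [dvd_rfl, dvd_mul_right _ _]
    exact hfi.not_isUnit (isUnit_of_dvd_one (e ▸ this))
  obtain ⟨h', hh'⟩ := hhμ
  have hh'm : h'.Monic := hhm.of_mul_monic_left (hh' ▸ hμm)
  by_cases hc : h' = 1
  swap
  · left
    obtain ⟨a, b, hab⟩ : IsCoprime h h' :=
      (isRelPrime_iff_isCoprime).1 ((squarefree_mul_iff.1 (hh' ▸ hsq)).1)
    have h0 : aeval S (h * h') = 0 := hh' ▸ minpoly.aeval F S
    set P1 := aeval S (b * h') with hP1
    set P2 := aeval S (a * h) with hP2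
    have hsum : ∀ u, P1 u + P2 u = u := fun u => by
      rw [← LinearMap.add_apply, hP1, hP2, ← map_add, add_comm, hab, map_one]; rfl
    have hk1 : ∀ u, aeval S h (P1 u) = 0 := fun u => by
      rw [hP1, ← Module.End.mul_apply, ← map_mul, show h * (b * h') = b * (h * h') by ring, map_mul, h0, mul_zero]
      rfl
    have hcross : ∀ u v, B (P1 u) (P2 v) = 0 := fun u v => by
      rw [hP2, mul_comm a h, map_mul, Module.End.mul_apply]
      exact horth hhR _ (hk1 u) _
    have hker1 : ∀ w, aeval S h w = 0 → P1 w = w := fun w hw => by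
      have := hsum w
      rwa [hP2, map_mul, Module.End.mul_apply, hw, map_zero, add_zero] at this
    have hker2 : ∀ w, aeval S h' w = 0 → P1 w = 0 := fun w hw => by
      rw [hP1, map_mul, Module.End.mul_apply, hw, map_zero]
    refine ⟨2 * (b * h') - 1, ?_⟩
    have hJ : ∀ u, aeval S (2 * (b * h') - 1) u = P1 u - P2 u := fun u => by
      rw [two_mul, map_sub, map_add, map_one, ← hP1, LinearMap.sub_apply, LinearMap.add_apply, Module.End.one_apply]
      conv_lhs => arg 2; rw [← hsum u]
      abel
    have hJ1 : ∀ u, P1 (P1 u) = P1 u := fun u => hker1 _ (hk1 u)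
    have hJ2 : ∀ u, P2 (P2 u) = P2 u := fun u => by
      have h1 := hsum (P2 u)
      have : P1 (P2 u) = 0 := by
        refine hker2 _ ?_
        rw [hP2, ← Module.End.mul_apply, ← map_mul, show h' * (a * h) = a * (h * h') by ring, map_mul, h0, mul_zero]
        rfl
      rwa [this, zero_add] at h1
    refine ⟨LinearMap.ext fun u => ?_, fun e => ?_, fun e => ?_, fun u v => ?_⟩
    · rw [Module.End.mul_apply, hJ, hJ, map_sub, map_sub, hJ1, hJ2]
      have e1 : P1 (P2 u) = 0 := by
        have := hsum (P2 u); rw [hJ2] at this; simpa using this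
      have e2 : P2 (P1 u) = 0 := by
        have := hsum (P1 u); rw [hJ1] at this; simpa using this
      rw [e1, e2]
      simpa using hsum u
    · obtain ⟨w, hw0, hw⟩ := hker h' ⟨h, by rw [hh', mul_comm]⟩ hh'm hc
      have h1 := LinearMap.congr_fun e w
      have h3 := hsum w
      rw [hker2 w hw, zero_add] at h3
      rw [hJ, hker2 w hw, h3, zero_sub, Module.End.one_apply, neg_eq_iff_add_eq_zero, ← two_smul F] at h1
      exact hw0 ((smul_eq_zero.1 h1).resolve_left h2)
    · obtain ⟨w, hw0, hw⟩ := hker h ⟨h', hh'⟩ hhm hh1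
      have h1 := LinearMap.congr_fun e w
      have h3 := hsum w
      rw [hker1 w hw, add_eq_left] at h3
      rw [hJ, hker1 w hw, h3, sub_zero, LinearMap.neg_apply, Module.End.one_apply, eq_neg_iff_add_eq_zero,
        ← two_smul F] at h1
      exact hw0 ((smul_eq_zero.1 h1).resolve_left h2)
    · rw [hJ, hJ]
      conv_rhs => rw [← hsum u, ← hsum v]
      simp only [map_sub, map_add, LinearMap.sub_apply, LinearMap.add_apply, hcross, hsw _ _ (hcross v u)]
      ring
  right
  have hμh : μ = h := by rw [hh', hc, mul_one]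
  have hcardK : ∀ x : AdjoinRoot f, x ^ Nat.card F ^ f.natDegree = x := fun x => by
    have : Fintype (AdjoinRoot f) := Fintype.ofFinite _
    have e : Nat.card (AdjoinRoot f) = Nat.card F ^ f.natDegree := by
      rw [Module.natCard_eq_pow_finrank (K := F), (AdjoinRoot.powerBasis hfi.ne_zero).finrank,
        AdjoinRoot.powerBasis_dim]
    rw [← e, Nat.card_eq_fintype_card, FiniteField.pow_card]
  have hSpow : ∀ e : ℕ, h ∣ X ^ e - 1 → M ∣ e := fun e he => by
    rw [← hordS]
    refine orderOf_dvd_of_pow_eq_one ?_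
    obtain ⟨Q, hQ⟩ : μ ∣ X ^ e - 1 := hμh ▸ he
    have h1 := congrArg (aeval S) hQ
    rw [map_sub, map_pow, aeval_X, map_one, map_mul, minpoly.aeval, zero_mul, sub_eq_zero] at h1
    exact h1
  have hrne : r ≠ 0 := fun e => by rw [e, zero_pow (by omega)] at hrM; exact zero_ne_one hrM
  by_cases he : f' = f
  · have hhf : h = f := by rw [hh, if_pos he]
    obtain ⟨i, hi⟩ := exists_root_pow (p := p) hfi hfm (M - 1) ((congrArg (aeval r') he).symm.trans (minpoly.aeval F r'))
    rw [← hr, ← hr'] at hi
    have hrr : r * r' = 1 := by rw [hr', ← pow_succ', Nat.sub_add_cancel (by omega), hrM]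
    have h2i : r ^ Nat.card F ^ (2 * i) = r := by
      rw [two_mul, pow_add, pow_mul, ← hi, hr', ← pow_mul, mul_comm, pow_mul, ← hi, hr'r]
    have hD2 : f.natDegree ∣ 2 * i :=
      hfi.natDegree_dvd_iff_dvd_X_pow_card_pow_sub_X.2 ((hroot _).1 (by simp [h2i]))
    have hDi : ¬ f.natDegree ∣ i := by
      intro hd
      have h1 := (hroot _).2 (hfi.natDegree_dvd_iff_dvd_X_pow_card_pow_sub_X.1 hd)
      simp only [map_sub, map_pow, aeval_X, sub_eq_zero] at h1
      rw [← hi, hr'] at h1
      have hr2 : r ^ 2 = 1 := by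
        rw [← hrM, ← mul_right_inj' hrne]
        calc r * r ^ 2 = r * r * r := by ring
          _ = r * r ^ (M - 1) * r := by rw [h1]
          _ = r * r ^ M := by rw [mul_assoc, ← pow_succ, Nat.sub_add_cancel (by omega)]
      have hr1 : r = 1 := by
        obtain ⟨c, rfl⟩ := hModd
        rwa [pow_succ, pow_mul, hr2, one_pow, one_mul] at hrM
      have hfX : f ∣ X - 1 := (hroot _).1 (by simp [hr1])
      have := hSpow 1 (by rw [hhf, pow_one]; exact hfX)
      have := Nat.le_of_dvd one_pos this
      omega
    obtain ⟨d, hd⟩ : 2 ∣ f.natDegree := by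
      by_contra hodd
      exact hDi (((Nat.prime_two.coprime_iff_not_dvd.2 hodd).symm).dvd_of_dvd_mul_left hD2)
    obtain ⟨c, hic⟩ : d ∣ i := by
      rw [hd] at hD2
      exact (Nat.mul_dvd_mul_iff_left two_pos).1 hD2
    have hcodd : c % 2 = 1 := by
      by_contra hc2
      refine hDi ?_
      rw [hd, hic, mul_comm 2 d]
      exact mul_dvd_mul_left d (Nat.dvd_of_mod_eq_zero (by omega))
    have hid : r ^ Nat.card F ^ i = r ^ Nat.card F ^ d := by
      obtain ⟨c', hc'⟩ : ∃ c', c = 2 * c' + 1 := ⟨c / 2, by omega⟩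
      rw [hic, hc', show d * (2 * c' + 1) = f.natDegree * c' + d by rw [hd]; ring, pow_add, pow_mul]
      congr 1
      clear hc' hcodd
      induction c' with
      | zero => simp
      | succ c' ih => rw [mul_add, mul_one, pow_add, pow_mul, ih, hcardK]
    obtain ⟨k, hk, hkill⟩ := exists_pow_kill hfi S N hN hSN
    have htop : LinearMap.ker (aeval S f) = ⊤ := by
      rw [← hhf, ← hμh, minpoly.aeval, LinearMap.ker_zero]
    rw [htop, finrank_top, hV, hd, mul_assoc] at hk
    refine ⟨d, k, mul_left_cancel₀ two_ne_zero hk, ?_, Or.inl (hSpow _ ?_), LinearMap.ext fun v => hkill v (htop ▸ Submodule.mem_top)⟩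
    · have := hfi.natDegree_pos; omega
    · rw [hhf, ← hroot, map_sub, map_pow, aeval_X, map_one, pow_succ, ← hid, ← hi, mul_comm, hrr, sub_self]
  · have hhf : h = f * f' := by rw [hh, if_neg he]
    obtain ⟨a, b, hab⟩ := hcop' he
    have hz : ∀ v, aeval S f (aeval S f' v) = 0 := fun v => by
      rw [← Module.End.mul_apply, ← map_mul, ← hhf, ← hμh, minpoly.aeval]; rfl
    have hdec : ∀ v, v = aeval S f' (aeval S b v) + aeval S f (aeval S a v) := fun v => by
      rw [← Module.End.mul_apply, ← Module.End.mul_apply, ← map_mul, ← map_mul, ← LinearMap.add_apply, ← map_add,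
        mul_comm f' b, mul_comm f a, add_comm, hab, map_one]
      rfl
    set W := LinearMap.ker (aeval S f)
    set W' := LinearMap.ker (aeval S f')
    have hsup : W ⊔ W' = ⊤ := eq_top_iff.2 fun v _ => by
      rw [hdec v]
      refine Submodule.add_mem_sup (hz _) ?_
      show aeval S f' (aeval S f _) = 0
      rw [← Module.End.mul_apply, ← map_mul, mul_comm f', map_mul, Module.End.mul_apply]
      exact hz _
    have hiso1 : ∀ {g g' c : F[X]}, g ∣ R g' → (∃ c', c' * g + c * g' = 1) →
        finrank F (LinearMap.ker (aeval S g)) ≤ m := by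
      intro g g' c hgR ⟨c', hc'⟩
      have hle : LinearMap.ker (aeval S g) ≤ B.orthogonal (LinearMap.ker (aeval S g)) := by
        intro v hv w hw
        have e : v = aeval S g' (aeval S c v) := by
          have := congrArg (fun P => aeval S P v) hc'
          simp only [map_add, LinearMap.add_apply, map_mul, map_one, Module.End.mul_apply,
            LinearMap.mem_ker.1 hv, map_zero, zero_add] at this
          rw [← Module.End.mul_apply, ← map_mul, mul_comm, map_mul, Module.End.mul_apply]
          exact this.symm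
        rw [e]
        exact horth hgR w (LinearMap.mem_ker.1 hw) _
      have h1 := Submodule.finrank_mono hle
      have h3 := LinearMap.BilinForm.finrank_add_finrank_orthogonal' (B := B) (LinearMap.ker (aeval S g))
      have hbot : LinearMap.ker B = ⊥ := LinearMap.ker_eq_bot'.2 fun u hu => hB.1 u fun v => by rw [hu]; rfl
      rw [hbot, inf_bot_eq, finrank_bot, hV] at h3
      omega
    have hW : finrank F W ≤ m := hiso1 (g := f) (g' := f') (c := b) hfR ⟨a, hab⟩
    have hW' : finrank F W' ≤ m := hiso1 (g := f') (g' := f) (c := a) hf'R ⟨b, by rw [← hab]; ring⟩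
    have htot := Submodule.finrank_sup_add_finrank_inf_eq W W'
    rw [hsup, finrank_top, hV] at htot
    obtain ⟨k, hk, hkill⟩ := exists_pow_kill hfi S N hN hSN
    obtain ⟨k', hk', hkill'⟩ := exists_pow_kill hf'i S N hN hSN
    have hdeg : f'.natDegree = f.natDegree := by
      refine le_antisymm ?_ ?_
      · have := minpoly.natDegree_le (A := F) r'
        rwa [(AdjoinRoot.powerBasis hfi.ne_zero).finrank, AdjoinRoot.powerBasis_dim] at this
      · have hmin : minpoly F r = f := (AdjoinRoot.minpoly_root hfi.ne_zero).trans (by rw [hfm.leadingCoeff, inv_one, map_one, mul_one])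
        conv_lhs => rw [← hmin]
        rw [← IntermediateField.adjoin.finrank (Algebra.IsIntegral.isIntegral _), hf'def,
          ← IntermediateField.adjoin.finrank hint']
        refine IntermediateField.finrank_le_of_le_right ?_
        rw [IntermediateField.adjoin_simple_le_iff, ← hr'r]
        exact pow_mem (IntermediateField.mem_adjoin_simple_self F r') _
    have hWm : finrank F W = m := by omega
    have hWm' : finrank F W' = m := by omega
    rw [hWm] at hk
    rw [hWm', hdeg] at hk'
    have hkk : k' = k := mul_left_cancel₀ hfi.natDegree_pos.ne' (hk'.symm.trans hk)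
    subst hkk
    refine ⟨f.natDegree, k', hk, hfi.natDegree_pos, Or.inr (hSpow _ ?_), LinearMap.ext fun v => ?_⟩
    · have hu : ∀ x : AdjoinRoot f, x ≠ 0 → x ^ (Nat.card F ^ f.natDegree - 1) = 1 := fun x hx => by
        have h1 := hcardK x
        rw [← Nat.sub_add_cancel (Nat.one_le_pow f.natDegree _ (Nat.card_pos (α := F))), pow_succ] at h1
        exact (mul_eq_right₀ hx).1 h1
      rw [hhf]
      refine (hcop' he).mul_dvd ?_ ?_
      · rw [← hroot, map_sub, map_pow, aeval_X, map_one, hu r hrne, sub_self]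
      · exact minpoly.dvd F r' (by rw [map_sub, map_pow, aeval_X, map_one, hu r' (pow_ne_zero _ hrne), sub_self])
    · have hv : v ∈ W ⊔ W' := hsup ▸ Submodule.mem_top
      obtain ⟨w, hw, w', hw', rfl⟩ := Submodule.mem_sup.1 hv
      rw [map_add, hkill w hw, hkill' w' hw', add_zero]
      rfl

end CfsgLib.HallGen.SympSpectrum
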