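import Cfsg.Agent.Lib.HallGen.SympSpectrum.Elements
import Cfsg.Agent.Lib.HallGen.SympSpectrum.Blocks

/-!
# The spectra of powers of `PSp`
-/

set_option autoImplicit false

namespace CfsgLib.HallGen.SympSpectrum

open CfsgLib CfsgLib.Classical

variable {F : Type*} [Field F] {n : ℕ}

/-- The linear action of the symplectic group. -/
noncomputable def endHom (n : ℕ) (F : Type*) [Field F] :
    ↥(Matrix.symplecticGroup (Fin n) F) →* Module.End F (Fin n ⊕ Fin n → F) where
  toFun g := ((Symp.symplecticEquiv n F g : Symp.Sp (Symp.sympBil n F)).1).toLinearMap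
  map_one' := by rw [map_one]; rfl
  map_mul' g h := by rw [map_mul]; rfl

theorem endHom_injective : Function.Injective (endHom n F) := fun g h e =>
  (Symp.symplecticEquiv n F).injective (Subtype.ext (LinearEquiv.toLinearMap_injective e))

theorem exists_lift_odd (g : Cfsg.PSp n F) (hg : Odd (orderOf g)) :
    ∃ x : ↥(Matrix.symplecticGroup (Fin n) F), (QuotientGroup.mk x : Cfsg.PSp n F) = g ∧ orderOf x = orderOf g := by
  obtain ⟨y, rfl⟩ := QuotientGroup.mk_surjective g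
  set o := orderOf (QuotientGroup.mk y : Cfsg.PSp n F) with ho
  have h1 : (QuotientGroup.mk (y ^ (o + 1)) : Cfsg.PSp n F) = QuotientGroup.mk y := by
    rw [QuotientGroup.mk_pow, pow_succ, ho, pow_orderOf_eq_one, one_mul]
  refine ⟨y ^ (o + 1), h1, Nat.dvd_antisymm (orderOf_dvd_of_pow_eq_one ?_) ?_⟩
  · obtain ⟨c, hc⟩ := hg
    rw [← pow_mul, show (o + 1) * o = 2 * o * (c + 1) by rw [hc]; ring, pow_mul,
      orderOf_dvd_iff_pow_eq_one.1 (orderOf_dvd_two_mul y), one_pow]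
  · rw [ho]
    conv_lhs => rw [← h1]
    exact orderOf_map_dvd (QuotientGroup.mk' _) _

variable (F n) in
/-- Some element of `PSp` has order divisible by `k`. -/
def Spec (k : ℕ) : Prop := ∃ x : Cfsg.PSp n F, k ∣ orderOf x

theorem Spec.mono {j k : ℕ} (h : Spec F n k) (hd : j ∣ k) : Spec F n j :=
  h.imp fun _ hx => hd.trans hx

variable [Finite F] {p : ℕ} [Fact p.Prime] [CharP F p]

theorem spec_half_torus (hn : 1 ≤ n) {N : ℕ}
    (hN : 2 * N = Nat.card F ^ n + 1 ∨ 2 * N = Nat.card F ^ n - 1) : Spec F n N := by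
  obtain ⟨T, hT⟩ := exists_torus (F := F) hn hN
  exact ⟨QuotientGroup.mk T, Nat.dvd_of_mul_dvd_mul_left two_pos (hT ▸ orderOf_dvd_two_mul T)⟩

theorem spec_block (hp2 : p ≠ 2) {d b : ℕ} (hd : 1 ≤ d) (hb : 1 ≤ b) {M t : ℕ} (hM : Odd M) (hMp : M.Coprime p)
    (hMd : M ∣ Nat.card F ^ d + 1 ∨ M ∣ Nat.card F ^ d - 1) (ht : t = 0 ∨ p ^ (t - 1) < 2 * b) :
    Spec F (d + b) (2 * M * p ^ t) := by
  have hpo : Odd p := (Fact.out : p.Prime).odd_of_ne_two hp2
  have hqo : Odd (Nat.card F) := by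
    haveI := Fintype.ofFinite F
    obtain ⟨c, -, hc⟩ := FiniteField.card F p
    rw [Nat.card_eq_fintype_card, hc]
    exact hpo.pow
  obtain ⟨N, hNM, hN⟩ : ∃ N, M ∣ N ∧ (N = Nat.card F ^ d + 1 ∨ N = Nat.card F ^ d - 1) := by
    rcases hMd with h | h
    exacts [⟨_, h, Or.inl rfl⟩, ⟨_, h, Or.inr rfl⟩]
  have hN2 : 2 ∣ N := by
    obtain ⟨c, hc⟩ := hqo.pow (n := d)
    rcases hN with rfl | rfl <;> omega
  obtain ⟨T, hT⟩ := exists_torus (F := F) hd hN
  obtain ⟨U, ⟨j, hj⟩, hU⟩ := exists_unipotent (F := F) (p := p) hb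
  obtain ⟨x, hx1, hx2⟩ := dvd_orderOf_block hd T U hb (hj ▸ hpo.pow)
  refine ⟨x, Nat.Coprime.mul_dvd_of_dvd_of_dvd ?_ ?_ ?_⟩
  · exact (Nat.Coprime.mul_left ((Nat.coprime_primes Nat.prime_two Fact.out).2 hp2.symm) hMp).pow_right t
  · exact ((Nat.Coprime.mul_dvd_of_dvd_of_dvd (Nat.coprime_two_left.2 hM) hN2 hNM).trans (hT ▸ hx1))
  · rcases Nat.eq_zero_or_pos t with rfl | h0
    · simp
    · have := hU (t - 1) (ht.resolve_left (by omega))
      rw [Nat.sub_add_cancel h0] at this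
      exact this.trans hx2

omit [Finite F] in
theorem unipotent_bound (hn : 1 ≤ n) {u : ↥(Matrix.symplecticGroup (Fin n) F)} {t : ℕ} (hu : orderOf u = p ^ t) :
    IsNilpotent (endHom n F u - 1) ∧ (t = 0 ∨ ∀ k, (endHom n F u - 1) ^ k = 0 → p ^ (t - 1) < k) := by
  have := Symp.nontrivial_sympSpace (F := F) hn
  haveI : CharP (Module.End F (Fin n ⊕ Fin n → F)) p :=
    charP_of_injective_algebraMap (algebraMap F _).injective p
  have key : ∀ i, (endHom n F u - 1) ^ p ^ i = endHom n F (u ^ p ^ i) - 1 := fun i => by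
    rw [sub_pow_char_pow_of_commute p i (Commute.one_right _), one_pow, map_pow]
  refine ⟨⟨p ^ t, by rw [key, ← hu, pow_orderOf_eq_one, map_one, sub_self]⟩, ?_⟩
  refine (Nat.eq_zero_or_pos t).imp id fun h0 k hk => ?_
  by_contra hle
  have h1 := pow_eq_zero_of_le (not_lt.1 hle) hk
  rw [key, sub_eq_zero, ← map_one (endHom n F)] at h1
  have h2 := Nat.le_of_dvd (pow_pos (Fact.out : p.Prime).pos _) (hu ▸ orderOf_dvd_of_pow_eq_one (endHom_injective h1))
  have h3 := Nat.pow_lt_pow_right (Fact.out : p.Prime).one_lt (show t - 1 < t by omega)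
  omega

theorem odd_element_cases (hp2 : p ≠ 2) (hn : 1 ≤ n) {E : ℕ} (hEo : Odd E)
    (hE : 2 * E = Nat.card F ^ n + 1 ∨ 2 * E = Nat.card F ^ n - 1) (g : Cfsg.PSp n F) (hg : Odd (orderOf g)) :
    Spec F n (2 * orderOf g) ∨ ∃ M t, orderOf g = M * p ^ t ∧ M ∣ E ∧
      (t = 0 ∨ p ^ (t - 1) < 2 * n) ∧ Spec F n (p ^ t) := by
  have hp : p.Prime := Fact.out
  obtain ⟨x, hxg, hxo⟩ := exists_lift_odd g hg
  obtain ⟨t, M, hMp, ho⟩ := Nat.exists_eq_pow_mul_and_not_dvd hg.pos.ne' p hp.ne_one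
  have hMcop : M.Coprime p := (hp.coprime_iff_not_dvd.2 hMp).symm
  rw [ho] at hg hxo ⊢
  obtain ⟨-, hMo⟩ := Nat.odd_mul.1 hg
  have hs : orderOf (x ^ p ^ t) = M := by
    rw [orderOf_pow, hxo, Nat.gcd_mul_right_left, Nat.mul_div_cancel_left _ (pow_pos hp.pos _)]
  have hu : orderOf (x ^ M) = p ^ t := by
    rw [orderOf_pow, hxo, Nat.gcd_mul_left_left, Nat.mul_div_cancel _ hMo.pos]
  set s := x ^ p ^ t
  set u := x ^ M
  have hsu : Commute s u := (Commute.refl x).pow_pow _ _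
  obtain ⟨hnil, hbd⟩ := unipotent_bound (p := p) hn hu
  have hspec : Spec F n (p ^ t) := ⟨g ^ M, by rw [← hxg, orderOf_pow, ← hu, hxg, ho, orderOf_pow, hxo]⟩
  have hb2n : t = 0 ∨ p ^ (t - 1) < 2 * n := hbd.imp id fun h => h _ (by
    have h1 := LinearMap.aeval_self_charpoly (endHom n F u - 1)
    rw [hnil.charpoly_eq_X_pow_finrank, map_pow, Polynomial.aeval_X, Symp.finrank_sympSpace] at h1
    exact h1)
  by_cases hM1 : M = 1
  · exact Or.inr ⟨M, t, mul_comm _ _, hM1 ▸ one_dvd E, hb2n, hspec⟩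
  have hinj := endHom_injective (n := n) (F := F)
  have hA := Symp.sympBil_isAlt n F
  have hB := Symp.sympBil_nondegenerate n F
  have h2F : (2 : F) ≠ 0 := fun h => hp2 ((Nat.prime_dvd_prime_iff_eq hp Nat.prime_two).1
    ((CharP.cast_eq_zero_iff F p 2).1 (by exact_mod_cast h)))
  rcases block_cases (p := p) h2F hA hB hn (Symp.finrank_sympSpace n F) (endHom n F s) (endHom n F u - 1) M hMo
      (fun h => hMp ((CharP.cast_eq_zero_iff F p M).1 h)) (by rw [orderOf_injective _ hinj, hs])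
      (fun h => hM1 (by rw [← hs, orderOf_eq_one_iff]; exact hinj (h.trans (map_one _).symm)))
      (fun a b => (Symp.symplecticEquiv n F s).2 a b) hnil ((hsu.map (endHom n F)).sub_right (Commute.one_right _))
    with ⟨P, hJJ, hJ1, hJn, hJiso⟩ | ⟨d, k, hnk, hd, hMd, hNk⟩
  · left
    set J := Polynomial.aeval (endHom n F s) P with hJdef
    let z : ↥(Matrix.symplecticGroup (Fin n) F) := (Symp.symplecticEquiv n F).symm
      ⟨LinearEquiv.ofLinear J J hJJ hJJ, hJiso⟩
    have hz : endHom n F z = J := by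
      show ((Symp.symplecticEquiv n F ((Symp.symplecticEquiv n F).symm _)).1).toLinearMap = J
      rw [MulEquiv.apply_symm_apply]
      rfl
    have hzz : z ^ 2 = 1 := hinj (by rw [map_pow, hz, map_one, pow_two, hJJ])
    have hxz : Commute x z := by
      refine hinj ?_
      rw [map_mul, map_mul, hz]
      exact commute_aeval (((Commute.refl x).pow_right _).map (endHom n F)) P
    have hznc : z ∉ Subgroup.center _ := fun hc => by
      have hc' : Symp.symplecticEquiv n F z ∈ Subgroup.center _ := by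
        rw [Subgroup.mem_center_iff] at hc ⊢
        intro y
        obtain ⟨w, rfl⟩ := (Symp.symplecticEquiv n F).surjective y
        rw [← map_mul, ← map_mul, hc]
      obtain ⟨a, ha⟩ := (Symp.mem_center_iff_smul hA hB).1 hc'
      have hJa : ∀ v, J v = a • v := fun v => by rw [← hz]; exact ha v
      have := Symp.nontrivial_sympSpace (F := F) hn
      rcases sq_eq_one_iff.1 (Symp.sq_eq_one_of_smul hA hB ha) with rfl | rfl
      · exact hJ1 (LinearMap.ext fun v => by simp [hJa])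
      · exact hJn (LinearMap.ext fun v => by simp [hJa])
    refine ⟨QuotientGroup.mk (x * z), ?_⟩
    set k := orderOf (QuotientGroup.mk (x * z) : Cfsg.PSp n F)
    have hk : (x * z) ^ k ∈ Subgroup.center _ :=
      (QuotientGroup.eq_one_iff _).1 (by rw [QuotientGroup.mk_pow]; exact pow_orderOf_eq_one _)
    have hx2 : x ^ (2 * k) = 1 := by
      have h1 := sq_of_mem_center hk
      rwa [← pow_mul, mul_comm k 2, hxz.mul_pow, pow_mul z, hzz, one_pow, mul_one] at h1
    have hok : orderOf x ∣ k :=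
      (Nat.coprime_two_right.2 (hxo ▸ hg)).dvd_of_dvd_mul_left (orderOf_dvd_of_pow_eq_one hx2)
    have hk2 : 2 ∣ k := by
      by_contra hk2
      obtain ⟨c, hc⟩ : ∃ c, k = 2 * c + 1 := ⟨k / 2, by omega⟩
      refine hznc ?_
      rw [hxz.mul_pow, orderOf_dvd_iff_pow_eq_one.1 hok, one_mul, hc, pow_succ, pow_mul, hzz, one_pow, one_mul] at hk
      exact hk
    rw [← hxo]
    exact Nat.Coprime.mul_dvd_of_dvd_of_dvd (Nat.coprime_two_left.2 (hxo ▸ hg)) hk2 hok
  · have := Symp.nontrivial_sympSpace (F := F) hn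
    have hk0 : k ≠ 0 := fun h => by rw [h, pow_zero] at hNk; exact one_ne_zero hNk
    by_cases hk1 : k = 1
    · subst hk1
      rw [mul_one] at hnk
      subst hnk
      have ht0 : t = 0 := hbd.elim id fun h => absurd (h 1 hNk) (by
        have := Nat.one_le_pow (t - 1) p hp.pos
        omega)
      subst ht0
      rw [pow_zero, one_mul]
      have hqo : Odd (Nat.card F ^ n) := by
        obtain ⟨c, hc⟩ := hEo
        rcases hE with h | h
        · exact Nat.odd_iff.2 (by omega)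
        · have := Nat.one_le_pow n (Nat.card F) Nat.card_pos
          exact Nat.odd_iff.2 (by omega)
      by_cases hME : M ∣ E
      · exact Or.inr ⟨M, 0, by simp, hME, Or.inl rfl, hspec⟩
      left
      obtain ⟨N, hN, hMN⟩ : ∃ N, (N = Nat.card F ^ n + 1 ∨ N = Nat.card F ^ n - 1) ∧ M ∣ N := by
        rcases hMd with h | h
        exacts [⟨_, Or.inl rfl, h⟩, ⟨_, Or.inr rfl, h⟩]
      obtain ⟨c, rfl⟩ : 4 ∣ N := by
        have hne : N ≠ 2 * E := fun h => hME ((Nat.coprime_two_right.2 hMo).dvd_of_dvd_mul_left (h ▸ hMN))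
        obtain ⟨e, he⟩ := hEo
        obtain ⟨e', he'⟩ := hqo
        omega
      obtain ⟨x', hx'⟩ := spec_half_torus (F := F) hn (N := 2 * c) (by
        rcases hN with h | h
        · exact Or.inl (by omega)
        · exact Or.inr (by omega))
      have h4 : M.Coprime 4 := (Nat.coprime_two_right.2 hMo).pow_right 2
      exact ⟨x', (mul_dvd_mul_left 2 (h4.dvd_of_dvd_mul_left hMN)).trans hx'⟩
    · left
      obtain ⟨b, rfl⟩ : ∃ b, k = b + 2 := ⟨k - 2, by omega⟩
      obtain rfl : n = d + d * (b + 1) := by rw [hnk]; ring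
      have hdb : 1 * (b + 1) ≤ d * (b + 1) := Nat.mul_le_mul_right _ hd
      rw [mul_comm (p ^ t) M, ← mul_assoc]
      refine spec_block hp2 hd (by omega) hMo hMcop hMd (hbd.imp id fun h => ?_)
      have := h _ hNk
      omega

theorem exists_exceptional (hp2 : p ≠ 2) :
    ∃ E, Odd E ∧ (2 * E = Nat.card F ^ n + 1 ∨ 2 * E = Nat.card F ^ n - 1) ∧
      ∃ c, 4 * c = Nat.card F ^ n + 1 ∨ 4 * c = Nat.card F ^ n - 1 := by
  have hqo : Odd (Nat.card F ^ n) := by
    haveI := Fintype.ofFinite F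
    obtain ⟨c, -, hc⟩ := FiniteField.card F p
    rw [Nat.card_eq_fintype_card, hc]
    exact ((Fact.out : p.Prime).odd_of_ne_two hp2).pow.pow
  have := Nat.one_le_pow n (Nat.card F) Nat.card_pos
  obtain ⟨c, hc⟩ := hqo
  obtain ⟨e, rfl | rfl⟩ := Nat.even_or_odd' c
  · exact ⟨2 * e + 1, ⟨e, rfl⟩, Or.inl (by omega), e, Or.inr (by omega)⟩
  · exact ⟨2 * e + 1, ⟨e, rfl⟩, Or.inr (by omega), e + 1, Or.inl (by omega)⟩

theorem exceptional_coprime (hn : 1 ≤ n) {E : ℕ}
    (hE : 2 * E = Nat.card F ^ n + 1 ∨ 2 * E = Nat.card F ^ n - 1) : E.Coprime p := by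
  have hp : p.Prime := Fact.out
  haveI := Fintype.ofFinite F
  obtain ⟨c, -, hc⟩ := FiniteField.card F p
  have hd : p ∣ Nat.card F ^ n := by
    rw [Nat.card_eq_fintype_card, hc, ← pow_mul]
    exact dvd_pow_self p (Nat.mul_ne_zero c.pos.ne' (by omega))
  refine (hp.coprime_iff_not_dvd.2 fun h => hp.ne_one ?_).symm
  rcases hE with h' | h'
  · have := h.mul_left 2; rw [h'] at this
    exact Nat.dvd_one.1 ((Nat.dvd_add_right hd).1 this)
  · have h1 := h.mul_left 2
    rw [h'] at h1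
    have := Nat.one_le_pow n (Nat.card F) Nat.card_pos
    have h3 := Nat.dvd_sub hd h1
    rw [Nat.sub_sub_self this] at h3
    exact Nat.dvd_one.1 h3

/-- The exceptional odd orders reduce to one torus and one unipotent element. -/
theorem double_or_exceptional (hp2 : p ≠ 2) (hn : 1 ≤ n) {E : ℕ} (hEo : Odd E)
    (hE : 2 * E = Nat.card F ^ n + 1 ∨ 2 * E = Nat.card F ^ n - 1) (L : List (Cfsg.PSp n F))
    (hL : ∀ g ∈ L, Odd (orderOf g)) :
    (∃ g ∈ L, Spec F n (2 * orderOf g)) ∨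
      ∃ T, (T = 0 ∨ p ^ (T - 1) < 2 * n) ∧ Spec F n (p ^ T) ∧ ∀ g ∈ L, orderOf g ∣ E * p ^ T := by
  induction L with
  | nil => exact Or.inr ⟨0, Or.inl rfl, ⟨1, by simp⟩, fun g hg => absurd hg (List.not_mem_nil)⟩
  | cons g L ih =>
    rcases odd_element_cases hp2 hn hEo hE g (hL g List.mem_cons_self) with h | ⟨M, t, ho, hME, ht, hts⟩
    · exact Or.inl ⟨g, List.mem_cons_self, h⟩
    rcases ih fun x hx => hL x (List.mem_cons_of_mem _ hx) with ⟨x, hx, h⟩ | ⟨T, hT, hTs, hd⟩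
    · exact Or.inl ⟨x, List.mem_cons_of_mem _ hx, h⟩
    refine Or.inr ?_
    rcases le_total t T with h | h
    · refine ⟨T, hT, hTs, fun x hx => ?_⟩
      rcases List.mem_cons.1 hx with rfl | hx
      · exact ho ▸ mul_dvd_mul hME (pow_dvd_pow p h)
      · exact hd x hx
    · refine ⟨t, ht, hts, fun x hx => ?_⟩
      rcases List.mem_cons.1 hx with rfl | hx
      · exact ho ▸ mul_dvd_mul_right hME _
      · exact (hd x hx).trans (mul_dvd_mul_left _ (pow_dvd_pow p h))

omit [Finite F] [Fact p.Prime] [CharP F p] in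
theorem range_eq {X : Type*} [Group X] [Finite X] {Y : Type*} [Group Y] (i : X → Y) (hi : ∀ x, orderOf (i x) = orderOf x)
    (hY : ∀ y : Y, ∃ x : X, orderOf y = orderOf x ∨ orderOf y = Nat.lcm (orderOf x) 2)
    (hd : ∀ x : X, Odd (orderOf x) → ∃ x' : X, 2 * orderOf x ∣ orderOf x') :
    Set.range (orderOf : Y → ℕ) = Set.range (orderOf : X → ℕ) := by
  refine Set.Subset.antisymm ?_ ?_
  · rintro _ ⟨y, rfl⟩
    obtain ⟨x, h | h⟩ := hY y
    · exact ⟨x, h.symm⟩
    rcases Nat.even_or_odd (orderOf x) with he | ho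
    · exact ⟨x, by rw [h, Nat.lcm_eq_left (even_iff_two_dvd.1 he)]⟩
    · obtain ⟨x', hx'⟩ := hd x ho
      refine ⟨x' ^ (orderOf x' / (2 * orderOf x)), ?_⟩
      rw [h, (Nat.coprime_two_right.2 ho).lcm_eq_mul, mul_comm]
      exact orderOf_pow_orderOf_div (orderOf_pos x').ne' (mul_comm 2 (orderOf x) ▸ hx')
  · rintro _ ⟨x, rfl⟩
    exact ⟨i x, hi x⟩

end CfsgLib.HallGen.SympSpectrum
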