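import Cfsg.Agent.Lib.Known.FieldExtension
import Cfsg.Agent.Lib.Classical.Symplectic.MatrixStructure
import Cfsg.Agent.Lib.Classical.ClassTheory.UnipotentModels
import Cfsg.Agent.Lib.Known.SL2Char.Normalizers
import Cfsg.Prelude.Def_Classical

/-!
# Elements of prescribed order in `PSp`
-/

set_option autoImplicit false

namespace CfsgLib.HallGen.SympSpectrum

open CfsgLib CfsgLib.Classical
open LinearMap (BilinForm)
open scoped Matrix

variable {F : Type*} [Field F]

local notation "SpM" => fun m => Matrix.symplecticGroup (Fin m) F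

/-- An isometric action, read in the matrix group, together with its central elements. -/
theorem exists_hom_sp {G V : Type*} [Group G] [AddCommGroup V] [Module F V] [FiniteDimensional F V]
    (B : BilinForm F V) (hA : B.IsAlt) (hB : B.Nondegenerate) {m : ℕ} (hd : Module.finrank F V = 2 * m)
    (ρ : G →* (V ≃ₗ[F] V)) (hpres : ∀ g u v, B (ρ g u) (ρ g v) = B u v) :
    ∃ φ : G →* ↥(Matrix.symplecticGroup (Fin m) F),
      (∀ g, φ g = 1 ↔ ρ g = 1) ∧
      ∀ g, φ g ∈ Subgroup.center ↥(Matrix.symplecticGroup (Fin m) F) ↔ ∃ a : F, ∀ v, ρ g v = a • v := by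
  obtain ⟨e, he⟩ := Symp.exists_isometry hA hB (Symp.sympBil_isAlt m F) (Symp.sympBil_nondegenerate m F)
    (by rw [Symp.finrank_sympSpace, hd])
  let ψ : G →* Symp.Sp (Symp.sympBil m F) :=
    { toFun := fun g => ⟨e.symm.trans ((ρ g).trans e), fun u v => by
        obtain ⟨a, rfl⟩ := e.surjective u
        obtain ⟨b, rfl⟩ := e.surjective v
        simp [he, hpres]⟩
      map_one' := by ext v; simp
      map_mul' := fun g h => by ext v; simp }
  have hψ : ∀ g v, (ψ g : _ ≃ₗ[F] _) (e v) = e (ρ g v) := fun g v => by simp [ψ]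
  refine ⟨(Symp.symplecticEquiv m F).symm.toMonoidHom.comp ψ, fun g => ?_, fun g => ?_⟩
  · show (Symp.symplecticEquiv m F).symm (ψ g) = 1 ↔ _
    rw [MulEquiv.map_eq_one_iff]
    constructor
    · intro h
      refine LinearEquiv.ext fun v => e.injective ?_
      rw [← hψ, h]
      rfl
    · intro h
      refine Subtype.ext (LinearEquiv.ext fun v => ?_)
      obtain ⟨a, rfl⟩ := e.surjective v
      rw [hψ, h]
      rfl
  · show (Symp.symplecticEquiv m F).symm (ψ g) ∈ _ ↔ _
    have hc : (Symp.symplecticEquiv m F).symm (ψ g) ∈ Subgroup.center _ ↔ ψ g ∈ Subgroup.center _ := by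
      rw [Subgroup.mem_center_iff, Subgroup.mem_center_iff]
      constructor
      · intro h y
        apply (Symp.symplecticEquiv m F).symm.injective
        rw [map_mul, map_mul, h]
      · intro h y
        apply (Symp.symplecticEquiv m F).injective
        simp [h (Symp.symplecticEquiv m F y)]
    rw [hc, Symp.mem_center_iff_smul (Symp.sympBil_isAlt m F) (Symp.sympBil_nondegenerate m F)]
    refine exists_congr fun a => ⟨fun h v => e.injective ?_, fun h v => ?_⟩
    · rw [← hψ, h, map_smul]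
    · obtain ⟨w, rfl⟩ := e.surjective v
      rw [hψ, h, map_smul]

theorem sq_of_mem_center {m : ℕ} {z : ↥(Matrix.symplecticGroup (Fin m) F)}
    (hz : z ∈ Subgroup.center _) : z ^ 2 = 1 := by
  set S := Symp.symplecticEquiv m F with hS
  have hA := Symp.sympBil_isAlt m F
  have hB := Symp.sympBil_nondegenerate m F
  have hz' : S z ∈ Subgroup.center _ := by
    rw [Subgroup.mem_center_iff] at hz ⊢
    intro y
    obtain ⟨x, rfl⟩ := S.surjective y
    rw [← map_mul, ← map_mul, hz]
  obtain ⟨a, ha⟩ := (Symp.mem_center_iff_smul hA hB).1 hz'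
  apply S.injective
  rw [map_pow, map_one]
  refine Subtype.ext (LinearEquiv.ext fun v => ?_)
  rcases subsingleton_or_nontrivial (Fin m ⊕ Fin m → F) with h | h
  · exact Subsingleton.elim _ _
  · rw [pow_two]
    show (S z).1 ((S z).1 v) = v
    rw [ha, ha, smul_smul, ← pow_two, Symp.sq_eq_one_of_smul hA hB ha, one_smul]

/-- Orders drop by a factor at most two in `PSp`. -/
theorem orderOf_dvd_two_mul {m : ℕ} (g : ↥(Matrix.symplecticGroup (Fin m) F)) :
    orderOf g ∣ 2 * orderOf (QuotientGroup.mk g : Cfsg.PSp m F) := by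
  refine orderOf_dvd_of_pow_eq_one ?_
  rw [mul_comm, pow_mul]
  exact sq_of_mem_center ((QuotientGroup.eq_one_iff _).1 (by rw [QuotientGroup.mk_pow]; exact pow_orderOf_eq_one _))

/-- The block sum of two symplectic groups and the orders it yields in `PSp`. -/
theorem dvd_orderOf_block {a b : ℕ} (ha : 1 ≤ a) (T : ↥(Matrix.symplecticGroup (Fin a) F))
    (U : ↥(Matrix.symplecticGroup (Fin b) F)) (hb : 1 ≤ b) (hU : Odd (orderOf U)) :
    ∃ x : Cfsg.PSp (a + b) F, orderOf T ∣ orderOf x ∧ orderOf U ∣ orderOf x := by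
  let V := (Fin a ⊕ Fin a → F) × (Fin b ⊕ Fin b → F)
  let B := Symp.sympBil a F
  let C := Symp.sympBil b F
  let D : BilinForm F V := B.compl₁₂ (LinearMap.fst F _ _) (LinearMap.fst F _ _) +
    C.compl₁₂ (LinearMap.snd F _ _) (LinearMap.snd F _ _)
  have hD : ∀ x y, D x y = B x.1 y.1 + C x.2 y.2 := fun _ _ => rfl
  let ρ : ↥(Matrix.symplecticGroup (Fin a) F) × ↥(Matrix.symplecticGroup (Fin b) F) →* (V ≃ₗ[F] V) :=
    { toFun := fun g => LinearEquiv.prodCongr
        ((Symp.symplecticEquiv a F g.1 : Symp.Sp B) : _ ≃ₗ[F] _)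
        ((Symp.symplecticEquiv b F g.2 : Symp.Sp C) : _ ≃ₗ[F] _)
      map_one' := LinearEquiv.ext fun v => by refine Prod.ext ?_ ?_ <;> simp [Prod.fst_one, Prod.snd_one, map_one]
      map_mul' := fun g h => LinearEquiv.ext fun v => by
        rw [LinearEquiv.mul_apply]
        refine Prod.ext ?_ ?_ <;> simp [Prod.fst_mul, Prod.snd_mul, map_mul] }
  obtain ⟨φ, hφ, hφc⟩ := exists_hom_sp D (m := a + b) (fun x => by rw [hD, Symp.sympBil_isAlt, Symp.sympBil_isAlt, add_zero])
    ⟨fun x hx => Prod.ext ((Symp.sympBil_nondegenerate a F).1 _ fun v => by simpa [hD, B] using hx (v, 0))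
        ((Symp.sympBil_nondegenerate b F).1 _ fun w => by simpa [hD, C] using hx (0, w)),
      fun x hx => Prod.ext ((Symp.sympBil_nondegenerate a F).2 _ fun v => by simpa [hD, B] using hx (v, 0))
        ((Symp.sympBil_nondegenerate b F).2 _ fun w => by simpa [hD, C] using hx (0, w))⟩
    (by rw [Module.finrank_prod, Symp.finrank_sympSpace, Symp.finrank_sympSpace]; ring) ρ
    (fun g u v => by
      rw [hD, hD]
      exact congrArg₂ (· + ·) ((Symp.symplecticEquiv a F g.1).2 _ _) ((Symp.symplecticEquiv b F g.2).2 _ _))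
  refine ⟨QuotientGroup.mk (φ (T, U)), ?_⟩
  set k := orderOf (QuotientGroup.mk (φ (T, U)) : Cfsg.PSp (a + b) F)
  have hk : φ ((T, U) ^ k) ∈ Subgroup.center _ := by
    rw [map_pow]
    exact (QuotientGroup.eq_one_iff _).1 (by rw [QuotientGroup.mk_pow]; exact pow_orderOf_eq_one _)
  obtain ⟨c, hc⟩ := (hφc _).1 hk
  have hU2 : U ^ (2 * k) = 1 := by
    have hq : ρ (((T, U) ^ k) ^ 2) = 1 := (hφ _).1 (by rw [map_pow, sq_of_mem_center hk])
    have h1 : ∀ x, (ρ (((T, U) ^ k) ^ 2) x).2 = x.2 := fun x => by rw [hq]; rfl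
    apply (Symp.symplecticEquiv b F).injective
    rw [map_one]
    refine Subtype.ext (LinearEquiv.ext fun w => ?_)
    have h2 := h1 (0, w)
    rw [← pow_mul, mul_comm k 2] at h2
    exact h2
  have hUk : U ^ k = 1 := by
    rw [← orderOf_dvd_iff_pow_eq_one]
    exact ((Nat.coprime_two_right.2 hU).dvd_of_dvd_mul_left (orderOf_dvd_of_pow_eq_one hU2))
  refine ⟨orderOf_dvd_of_pow_eq_one ?_, orderOf_dvd_of_pow_eq_one hUk⟩
  have := Symp.nontrivial_sympSpace (F := F) hb
  obtain ⟨w, hw⟩ := exists_ne (0 : Fin b ⊕ Fin b → F)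
  have hc1 : c = 1 := by
    have h2 := congrArg Prod.snd (hc (0, w))
    have h3 : (Symp.symplecticEquiv b F (U ^ k) : _ ≃ₗ[F] _) w = c • w := h2
    rw [hUk, map_one] at h3
    exact (smul_left_injective F hw (show c • w = (1 : F) • w by rw [one_smul]; exact h3.symm))
  apply (Symp.symplecticEquiv a F).injective
  rw [map_one]
  refine Subtype.ext (LinearEquiv.ext fun v => ?_)
  have h2 := congrArg Prod.fst (hc (v, 0))
  rw [hc1, one_smul] at h2
  exact h2

/-- `SL₂` of an extension of degree `d` inside `Sp₂d`. -/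
theorem exists_sl_two_embedding (K : Type*) [Field K] [Algebra F K] [FiniteDimensional F K] :
    ∃ φ : Matrix.SpecialLinearGroup (Fin 2) K →* ↥(Matrix.symplecticGroup (Fin (Module.finrank F K)) F),
      Function.Injective φ := by
  obtain ⟨ℓ, -, hℓ⟩ := Known.FieldExtension.exists_functional (F := F) (x := (0 : K)) (y := 1) (by simp)
  let d : (Fin 2 → K) → (Fin 2 → K) → K := fun u v => u 0 * v 1 - u 1 * v 0
  let B : BilinForm F (Fin 2 → K) := LinearMap.mk₂ F (fun u v => ℓ (d u v))
    (fun u u' v => by rw [← map_add]; congr 1; simp [d]; ring)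
    (fun c u v => by rw [← map_smul]; congr 1; simp [d, mul_sub, Algebra.smul_def]; ring)
    (fun u v v' => by rw [← map_add]; congr 1; simp [d]; ring)
    (fun c u v => by rw [← map_smul]; congr 1; simp [d, mul_sub, Algebra.smul_def]; ring)
  have hB : ∀ u v, B u v = ℓ (d u v) := fun _ _ => rfl
  have hnd : ∀ u : Fin 2 → K, (∀ v, B u v = 0) → u = 0 := by
    intro u h
    by_contra hu
    obtain ⟨v, hv⟩ : ∃ v, d u v = 1 := by
      by_cases h0 : u 0 = 0
      · have h1 : u 1 ≠ 0 := fun h1 => hu (funext fun i => by fin_cases i <;> assumption)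
        exact ⟨![-(u 1)⁻¹, 0], by simp [d, h0, h1]⟩
      · exact ⟨![0, (u 0)⁻¹], by simp [d, h0]⟩
    have := h v
    rw [hB, hv, hℓ] at this
    exact one_ne_zero this
  let R : ((Fin 2 → K) ≃ₗ[K] (Fin 2 → K)) →* ((Fin 2 → K) ≃ₗ[F] (Fin 2 → K)) :=
    { toFun := fun e => e.restrictScalars F, map_one' := rfl, map_mul' := fun _ _ => rfl }
  let ρ := R.comp (Matrix.SpecialLinearGroup.toLin' (n := Fin 2) (R := K))
  obtain ⟨φ, hφ, -⟩ := exists_hom_sp B (fun u => by rw [hB]; simp [d, mul_comm])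
    ⟨hnd, fun u h => hnd u fun v => by
      have e : d u v = -d v u := by simp [d]; ring
      rw [hB, e, map_neg, ← hB, h v, neg_zero]⟩
    (m := Module.finrank F K) (by rw [Module.finrank_pi_fintype]; simp) ρ (fun g u v => by
      rw [hB, hB]
      congr 1
      show d (g.1 *ᵥ u) (g.1 *ᵥ v) = d u v
      have hdet := g.det_coe
      rw [Matrix.det_fin_two] at hdet
      simp [d, Matrix.mulVec, dotProduct, Fin.sum_univ_two]
      linear_combination (u 0 * v 1 - u 1 * v 0) * hdet)
  refine ⟨φ, (injective_iff_map_eq_one φ).2 fun g hg => ?_⟩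
  refine Matrix.SpecialLinearGroup.toLin'_injective ?_
  rw [map_one]
  exact LinearEquiv.ext fun v => LinearEquiv.congr_fun ((hφ g).1 hg) v

/-- Tori of orders `q ^ d + 1` and `q ^ d - 1`. -/
theorem exists_torus [Finite F] {d : ℕ} (hd : 1 ≤ d) {N : ℕ}
    (hN : N = Nat.card F ^ d + 1 ∨ N = Nat.card F ^ d - 1) :
    ∃ T : ↥(Matrix.symplecticGroup (Fin d) F), orderOf T = N := by
  obtain ⟨p, hp⟩ := CharP.exists F
  have : Fact p.Prime := ⟨CharP.char_is_prime F p⟩
  have : NeZero d := ⟨by omega⟩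
  let K := FiniteField.Extension F p d
  have hK : Nat.card K = Nat.card F ^ d := FiniteField.natCard_extension F p d
  have := Fintype.ofFinite K
  rw [Nat.card_eq_fintype_card] at hK
  classical
  have key : ∀ m, Module.finrank F K = m → ∀ x : Matrix.SpecialLinearGroup (Fin 2) K,
      ∃ T : ↥(Matrix.symplecticGroup (Fin m) F), orderOf T = orderOf x := by
    rintro _ rfl x
    obtain ⟨φ, hφ⟩ := exists_sl_two_embedding (F := F) K
    exact ⟨φ x, orderOf_injective φ hφ x⟩
  obtain ⟨x, hx⟩ : ∃ x : Matrix.SpecialLinearGroup (Fin 2) K, orderOf x = N := by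
    rcases hN with rfl | rfl
    · obtain ⟨g, hg⟩ := SL2Char.exists_elliptic_SL (F := K)
      have hnc : IsCyclic (Subgroup.centralizer ({g} : Set (Matrix.SpecialLinearGroup (Fin 2) K))) :=
        Classical.Two.isCyclic_centralizer (SL2Char.nonScalar_of_elliptic hg) (SL2Char.tr_sq_ne_of_elliptic hg)
      obtain ⟨z, hz⟩ := IsCyclic.exists_ofOrder_eq_natCard
        (α := Subgroup.centralizer ({g} : Set (Matrix.SpecialLinearGroup (Fin 2) K)))
      rw [SL2Char.card_centralizer_SL hg, hK] at hz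
      exact ⟨z, by rw [← hz, Subgroup.orderOf_coe]⟩
    · obtain ⟨a, ha⟩ := IsCyclic.exists_ofOrder_eq_natCard (α := Kˣ)
      rw [Nat.card_units, Nat.card_eq_fintype_card, hK] at ha
      refine ⟨SL2Char.diagS a, ?_⟩
      rw [← ha]
      refine orderOf_injective (MonoidHom.mk' SL2Char.diagS fun x y => ?_) (fun x y h => ?_) a
      · exact Subtype.ext (by ext i j; fin_cases i <;> fin_cases j <;> simp [Matrix.mul_apply, Fin.sum_univ_two, mul_comm])
      · exact Units.ext (congrArg (fun s : Matrix.SpecialLinearGroup (Fin 2) K => s.1 0 0) h)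
  obtain ⟨T, hT⟩ := key d (FiniteField.finrank_extension F p d) x
  exact ⟨T, hT.trans hx⟩

/-- A unipotent element with one Jordan block. -/
theorem exists_unipotent [Finite F] {p : ℕ} [Fact p.Prime] [CharP F p] {b : ℕ} (hb : 1 ≤ b) :
    ∃ u : ↥(Matrix.symplecticGroup (Fin b) F), (∃ j, orderOf u = p ^ j) ∧
      ∀ t : ℕ, p ^ t < 2 * b → p ^ (t + 1) ∣ orderOf u := by
  obtain ⟨β, a, halt, hβ, ha, hnil, hprof⟩ := ClassTheory.spModel_even (F := F) (k := b) hb
  obtain ⟨φ, hφ, -⟩ := exists_hom_sp (G := Subgroup.zpowers a) β halt hβ (m := b) (by simp)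
    (Subgroup.zpowers a).subtype (fun g => by
      obtain ⟨g, i, rfl⟩ := g
      have hmem : a ∈ Symp.Sp β := ha
      exact (zpow_mem hmem i))
  refine ⟨φ ⟨a, Subgroup.mem_zpowers a⟩, ?_⟩
  have hinj : Function.Injective φ := (injective_iff_map_eq_one φ).2 fun g hg => Subtype.ext ((hφ g).1 hg)
  rw [orderOf_injective φ hinj, Subgroup.orderOf_mk]
  set N : Module.End F (Fin (Multiset.sum {2 * b}) → F) := (a.toLinearMap - 1) with hN
  obtain ⟨r, hr⟩ := hnil
  have hcoe : ∀ k : ℕ, a ^ k = 1 ↔ (a.toLinearMap : Module.End F (Fin (Multiset.sum {2 * b}) → F)) ^ k = 1 := by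
    intro k
    have hk : (a.toLinearMap : Module.End F (Fin (Multiset.sum {2 * b}) → F)) ^ k = (a ^ k).toLinearMap :=
      LinearMap.ext fun v => by rw [Module.End.pow_apply, LinearEquiv.coe_coe, LinearEquiv.coe_coe, LinearEquiv.coe_pow]
    rw [hk]
    exact ⟨fun h => by rw [h]; rfl, fun h => LinearEquiv.toLinearMap_injective h⟩
  have : NeZero (2 * b) := ⟨by omega⟩
  have : Nonempty (Fin (Multiset.sum {2 * b})) := ⟨⟨0, by simp; omega⟩⟩
  have : CharP (Module.End F (Fin (Multiset.sum {2 * b}) → F)) p :=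
    charP_of_injective_algebraMap (algebraMap F _).injective p
  have hpow : ∀ t : ℕ, a ^ p ^ t = 1 ↔ N ^ p ^ t = 0 := by
    intro t
    rw [hcoe, hN, sub_pow_char_pow_of_commute p t (Commute.one_right _), one_pow, sub_eq_zero]
  obtain ⟨j, hj, hjo⟩ := (Nat.dvd_prime_pow (Fact.out : p.Prime)).1
    (orderOf_dvd_of_pow_eq_one ((hpow r).2 (pow_eq_zero_of_le (Nat.lt_pow_self (Fact.out : p.Prime).one_lt).le hr)))
  refine ⟨⟨j, hjo⟩, fun t ht => ?_⟩
  rw [hjo]
  refine pow_dvd_pow p ?_
  by_contra hlt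
  have h1 := (hpow t).1 (orderOf_dvd_iff_pow_eq_one.1 (hjo ▸ pow_dvd_pow p (by omega : j ≤ t)))
  have h2 := hprof (p ^ t)
  rw [h1] at h2
  rw [LinearMap.range_zero, finrank_bot] at h2
  simp [Known.Jordan.prof] at h2
  omega

end CfsgLib.HallGen.SympSpectrum
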